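import Groth.Prelude.Def_MoreMor
import Groth.Prelude.Def_FlatFun
import Groth.Agent.Lib.Dev4.RelAssBC
import Groth.Agent.Lib.AlgSpRel14.RelDim
import Groth.Agent.Lib.EtBase.Unramified
import Groth.Agent.Lib.FpqcFun4.DimLT
import Groth.Agent.Lib.SchDom.ModCoker
import Groth.Agent.Lib.FlatH4.FlatComp
import Groth.Agent.S1201
import Mathlib

/-!
# `F_n` and etale pullback
-/

set_option autoImplicit false
set_option linter.style.haveILetI false
set_option backward.isDefEq.respectTransparency false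
set_option backward.isDefEq.respectTransparency.types false

universe u

open CategoryTheory CategoryTheory.Limits AlgebraicGeometry Opposite

noncomputable section

namespace Groth.Agent.FnEt4

/-- A point of non-flatness specialises from a relative associated point of non-flatness in its fibre. -/
theorem exists_relAss_nonflat {X S : Scheme.{u}} (f : X ⟶ S) [LocallyOfFiniteType f] (F : X.Modules) [Coh.IsQCoh F]
    (hF : CohB1.IsFT F) {x : X} (hx : ¬ FlatMod.IsFlatOverAt f F x) :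
    ∃ y : X, y ∈ MoreMor.relAss f F ∧ y ⤳ x ∧ f y = f x ∧ ¬ FlatMod.IsFlatOverAt f F y := by
  obtain ⟨V, hV, hxV, -⟩ := exists_isAffineOpen_mem_and_subset (X := S) (x := f x) (U := ⊤) trivial
  obtain ⟨U, hU, hxU, hUV⟩ := exists_isAffineOpen_mem_and_subset (X := X) (x := x) (U := f ⁻¹ᵁ V) hxV
  letI := (f.appLE V U hUV).hom.toAlgebra
  letI : Module Γ(S, V) Γ(F, U) := Module.compHom _ (algebraMap Γ(S, V) Γ(X, U))
  haveI : IsScalarTower Γ(S, V) Γ(X, U) Γ(F, U) := IsScalarTower.of_algebraMap_smul fun _ _ => rfl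
  haveI : Algebra.FiniteType Γ(S, V) Γ(X, U) := f.finiteType_appLE hV hU hUV
  haveI := M1.finite_sections (inferInstance : Coh.IsQCoh F) hF hU
  let p := (hV.primeIdealOf ⟨f x, hUV hxU⟩).asIdeal
  let q := (hU.primeIdealOf ⟨x, hxU⟩).asIdeal
  haveI : q.LiesOver p :=
    ⟨(congrArg PrimeSpectrum.asIdeal (IsAffineOpen.comap_primeIdealOf_appLE V hV U hU hUV hxU)).symm⟩
  have hq : ¬ FlatCA.FlatAt Γ(S, V) q Γ(F, U) := fun h => hx ((FlatH4.isFlatOverAt_iff f F V hV U hU hUV hxU).2 h)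
  rw [Groth.Agent.S1201.result Γ(F, U) p q] at hq
  push Not at hq
  obtain ⟨q', hq', hle, hlies, hass, hflat⟩ := hq
  let y := hU.fromSpec (⟨q', hq'⟩ : PrimeSpectrum Γ(X, U))
  have hyU : y ∈ U := hU.range_fromSpec.le ⟨_, rfl⟩
  have hyq : hU.primeIdealOf ⟨y, hyU⟩ = ⟨q', hq'⟩ :=
    hU.fromSpec.isOpenEmbedding.injective (hU.fromSpec_primeIdealOf _)
  have hyp : (hV.primeIdealOf ⟨f y, hUV hyU⟩) = hV.primeIdealOf ⟨f x, hUV hxU⟩ := PrimeSpectrum.ext (by
    rw [← IsAffineOpen.comap_primeIdealOf_appLE V hV U hU hUV hyU, hyq]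
    exact hlies.over.symm)
  have hfy : f y = f x := by
    have h2 := congrArg hV.fromSpec hyp
    rwa [hV.fromSpec_primeIdealOf, hV.fromSpec_primeIdealOf] at h2
  refine ⟨y, (Dev4.mem_relAss_iff f F hU hV hUV hyU).2 ?_, ?_, hfy, fun h => hflat ?_⟩
  · exact (Dev4.fiberAss_congr hyp (congrArg PrimeSpectrum.asIdeal hyq)).2 hass
  · have h1 : (⟨q', hq'⟩ : PrimeSpectrum Γ(X, U)) ⤳ hU.primeIdealOf ⟨x, hxU⟩ :=
      (PrimeSpectrum.le_iff_specializes _ _).1 hle
    have h2 := h1.map hU.fromSpec.continuous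
    rwa [hU.fromSpec_primeIdealOf] at h2
  · have h2 := (FlatH4.isFlatOverAt_iff f F V hV U hU hUV hyU).1 h
    have key : ∀ (a b : PrimeSpectrum Γ(X, U)), a = b → FlatCA.FlatAt Γ(S, V) a.asIdeal Γ(F, U) →
        FlatCA.FlatAt Γ(S, V) b.asIdeal Γ(F, U) := fun a b e h => by subst e; exact h
    exact key _ _ hyq h2

theorem rd_comp_etale {A B C : Scheme.{u}} (s : A ⟶ B) [Etale s] (f : B ⟶ C) [LocallyOfFiniteType f] (r : A) :
    FibDim14.rd (s ≫ f) r = FibDim14.rd f (s r) := by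
  haveI : LocallyQuasiFinite s := EtBase.locallyQuasiFinite_of_formallyUnramified s
  rw [FibDim14.rd_comp s f r, AlgSpRel14.rd_eq_zero_of_lqf s, add_zero]

variable {X X' S : Scheme.{u}} (f : X ⟶ S) [LocallyOfFiniteType f] (F : X.Modules) [Coh.IsQCoh F]
  (h : X' ⟶ X) [Etale h] (T : Over S)

/-- The map of base changes of an etale map. -/
def map : PicF.XT (h ≫ f) T ⟶ PicF.XT f T :=
  pullback.map (h ≫ f) T.hom f T.hom h (𝟙 _) (𝟙 _) (by simp) (by simp)

omit [LocallyOfFiniteType f] [Etale h] in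
theorem map_fst : map f h T ≫ pullback.fst f T.hom = pullback.fst (h ≫ f) T.hom ≫ h := pullback.lift_fst _ _ _

omit [LocallyOfFiniteType f] [Etale h] in
theorem map_proj : map f h T ≫ PicF.XTproj f T = PicF.XTproj (h ≫ f) T :=
  (pullback.lift_snd _ _ _).trans (Category.comp_id _)

omit [LocallyOfFiniteType f] [Etale h] in
theorem isPullback_map : IsPullback (map f h T) (pullback.fst (h ≫ f) T.hom) (pullback.fst f T.hom) h :=
  IsPullback.of_right (by rw [map_proj]; exact (IsPullback.of_hasPullback (h ≫ f) T.hom).flip) (map_fst f h T)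
    (IsPullback.of_hasPullback f T.hom).flip

omit [LocallyOfFiniteType f] in
theorem etale_map : Etale (map f h T) := MorphismProperty.of_isPullback (isPullback_map f h T).flip ‹Etale h›

/-- Flatness along the map of base changes. -/
theorem isFlatOverAt_map_iff (z : PicF.XT (h ≫ f) T) :
    FlatMod.IsFlatOverAt (PicF.XTproj (h ≫ f) T) (FGA.ET (h ≫ f) ((Scheme.Modules.pullback h).obj F) T) z ↔
      FlatMod.IsFlatOverAt (PicF.XTproj f T) (FGA.ET f F T) (map f h T z) := by
  haveI := etale_map f h T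
  let e : (Scheme.Modules.pullback (map f h T)).obj (FGA.ET f F T) ≅
      FGA.ET (h ≫ f) ((Scheme.Modules.pullback h).obj F) T :=
    (Scheme.Modules.pullbackComp _ _).app F ≪≫ (Scheme.Modules.pullbackCongr (map_fst f h T)).app F ≪≫
      ((Scheme.Modules.pullbackComp _ _).app F).symm
  have h0 := FlatH4.isFlatOverAt_pullback_comp_iff (map f h T) (PicF.XTproj f T) (FGA.ET f F T) z
    (Flat.stalkMap _ z)
  rw [map_proj] at h0
  exact ⟨fun hz => h0.1 (SchDom.isFlatOverAt_of_iso _ e.symm z hz), fun hz => SchDom.isFlatOverAt_of_iso _ e z (h0.2 hz)⟩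

/-- `F_n` passes to an etale pullback. -/
theorem P_pullback (n : ℕ) (hT : FlatFun.DimFibresLT n (PicF.XTproj f T)
      {x | ¬ FlatMod.IsFlatOverAt (PicF.XTproj f T) (FGA.ET f F T) x}) :
    FlatFun.DimFibresLT n (PicF.XTproj (h ≫ f) T)
      {x | ¬ FlatMod.IsFlatOverAt (PicF.XTproj (h ≫ f) T) (FGA.ET (h ≫ f) ((Scheme.Modules.pullback h).obj F) T) x} := by
  intro z hz
  haveI := etale_map f h T
  haveI : LocallyOfFiniteType (PicF.XTproj f T) := MorphismProperty.pullback_snd _ _ inferInstance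
  haveI : LocallyOfFiniteType (PicF.XTproj (h ≫ f) T) := MorphismProperty.pullback_snd _ _ inferInstance
  have h1 := (FpqcFun4.trdeg_lt_iff (PicF.XTproj f T) n _).1
    (hT (map f h T z) fun hfl => hz ((isFlatOverAt_map_iff f F h T z).2 hfl))
  refine (FpqcFun4.trdeg_lt_iff (PicF.XTproj (h ≫ f) T) n z).2 ?_
  have h2 := rd_comp_etale (map f h T) (PicF.XTproj f T) z
  simp only [map_proj] at h2
  rw [h2]
  exact h1

/-- `F_n` descends from an etale pullback reaching the relative assassin. -/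
theorem P_of_pullback (hF : CohB1.IsFT F) (hAss : MoreMor.relAss f F ⊆ Set.range h.base) (n : ℕ)
    (hT : FlatFun.DimFibresLT n (PicF.XTproj (h ≫ f) T)
      {x | ¬ FlatMod.IsFlatOverAt (PicF.XTproj (h ≫ f) T) (FGA.ET (h ≫ f) ((Scheme.Modules.pullback h).obj F) T) x}) :
    FlatFun.DimFibresLT n (PicF.XTproj f T)
      {x | ¬ FlatMod.IsFlatOverAt (PicF.XTproj f T) (FGA.ET f F T) x} := by
  intro x hx
  haveI := etale_map f h T
  haveI : LocallyOfFiniteType (PicF.XTproj f T) := MorphismProperty.pullback_snd _ _ inferInstance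
  haveI : LocallyOfFiniteType (PicF.XTproj (h ≫ f) T) := MorphismProperty.pullback_snd _ _ inferInstance
  haveI : Coh.IsQCoh (FGA.ET f F T) := M1.isQCoh_pullback _ inferInstance
  obtain ⟨y, hy, hyx, hyf, hny⟩ := exists_relAss_nonflat (PicF.XTproj f T) (FGA.ET f F T) (M1.isFT_pullback _ hF) hx
  obtain ⟨x', hx'⟩ := hAss ((Dev4.relAss_baseChange (IsPullback.of_hasPullback f T.hom) F).1 y hy)
  obtain ⟨z, hz, -⟩ := Scheme.exists_preimage_of_isPullback (isPullback_map f h T) y x' hx'.symm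
  have h1 := (FpqcFun4.trdeg_lt_iff (PicF.XTproj (h ≫ f) T) n z).1
    (hT z fun hfl => hny (hz ▸ (isFlatOverAt_map_iff f F h T z).1 hfl))
  refine (FpqcFun4.trdeg_lt_iff (PicF.XTproj f T) n x).2 ?_
  have h2 := rd_comp_etale (map f h T) (PicF.XTproj f T) z
  simp only [map_proj] at h2
  rw [h2, hz] at h1
  by_cases he : y = x
  · rwa [← he]
  · exact lt_trans (FibDim14.rd_lt_of_specializes (PicF.XTproj f T) hyx he hyf) h1

end Groth.Agent.FnEt4
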